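import Mathlib
import Cfsg.Agent.Lib.Helper14.PG63.Defs

/-!
# PG63 (S3664): package [FPF]

The elements of order 13 of `Sz(8)` have no nonzero fixed point on `W = M₄(F₈)` for the action
`X ↦ t * X * (t^(2))ᵀ`.
-/

set_option autoImplicit false

namespace Cfsg.Agent.Lib.Helper61.PG63

open Matrix Polynomial Cfsg.Agent.Lib.Helper14.PG63

universe u

/-- the Bezout identity for `m = X⁴ + cX³ + c⁴X² + cX + 1` and
`m' = X⁴ + c²X³ + c⁸X² + c²X + 1` when `c³ = c² + 1` in characteristic 2 -/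
theorem bezout13 {F : Type u} [Field F] (h2 : (2 : F) = 0) (c : F) (hc : c ^ 3 = c ^ 2 + 1) :
    ((1 + C c + C c ^ 2) + (1 + C c + C c ^ 2) * X ^ 2 + (1 + C c) * X ^ 3 : F[X]) *
        (X ^ 4 + C c * X ^ 3 + C c ^ 4 * X ^ 2 + C c * X + 1) +
      ((C c + C c ^ 2) + X + (1 + C c) * X ^ 3) *
        (X ^ 4 + C c ^ 2 * X ^ 3 + C c ^ 8 * X ^ 2 + C c ^ 2 * X + 1) = 1 := by
  have hc' : (C c : F[X]) ^ 3 = C c ^ 2 + 1 := by
    rw [← C_pow, hc, C_add, C_pow, C_1]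
  have h2' : (2 : F[X]) = 0 := by
    calc (2 : F[X]) = C (2 : F) := (map_ofNat C 2).symm
      _ = C 0 := by rw [h2]
      _ = 0 := C_0
  linear_combination (3 * X + 19 * X ^ 2 + 8 * X ^ 3 + 5 * X ^ 4 + 13 * X ^ 5 + X ^ 6 + C c * X + 13 * C c * X ^ 2 + 4 * C c * X ^ 3 + 3 * C c * X ^ 4 + 9 * C c * X ^ 5 + 9 * C c ^ 2 * X ^ 2 + 2 * C c ^ 2 * X ^ 3 + 2 * C c ^ 2 * X ^ 4 + 6 * C c ^ 2 * X ^ 5 + 6 * C c ^ 3 * X ^ 2 + C c ^ 3 * X ^ 3 + C c ^ 3 * X ^ 4 + 3 * C c ^ 3 * X ^ 5 + 3 * C c ^ 4 * X ^ 2 + C c ^ 4 * X ^ 3 + 2 * C c ^ 4 * X ^ 5 + 2 * C c ^ 5 * X ^ 2 + C c ^ 5 * X ^ 3 + 2 * C c ^ 5 * X ^ 5 + 2 * C c ^ 6 * X ^ 2 + C c ^ 6 * X ^ 5 + C c ^ 7 * X ^ 2) * hc' + (2 * X + 10 * X ^ 2 + 5 * X ^ 3 + 3 * X ^ 4 + 7 * X ^ 5 + X ^ 6 + X ^ 7 + C c + C c * X + 7 * C c * X ^ 2 + 4 * C c * X ^ 3 + 3 * C c * X ^ 4 + 5 * C c * X ^ 5 + C c * X ^ 6 + C c * X ^ 7 + C c ^ 2 + 2 * C c ^ 2 * X + 15 * C c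 ^ 2 * X ^ 2 + 6 * C c ^ 2 * X ^ 3 + 6 * C c ^ 2 * X ^ 4 + 10 * C c ^ 2 * X ^ 5 + 2 * C c ^ 2 * X ^ 6) * h2'

/-- evaluation of a quartic at a matrix -/
theorem aeval_quartic {F : Type u} [Field F] (t : Matrix (Fin 4) (Fin 4) F) (a b d : F) :
    aeval t (X ^ 4 + C a * X ^ 3 + C b * X ^ 2 + C d * X + 1 : F[X]) =
      t ^ 4 + a • t ^ 3 + b • t ^ 2 + d • t + 1 := by
  simp only [map_add, map_mul, map_pow, aeval_X, aeval_C, map_one,
    Algebra.algebraMap_eq_smul_one, Matrix.smul_mul, Matrix.one_mul]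

/-- [FPF] -/
theorem pkgFpf : PkgFpf.{u} := by
  intro hCH hCls hPMap F _ _ _ hcard t Xm ht h13 hne hfix
  classical
  have h2 : (2 : F) = 0 := CharTwo.two_eq_zero
  have hc8 : t.trace ^ 8 = t.trace := by
    rw [← hcard]
    exact FiniteField.pow_card _
  have hc3 : t.trace ^ 3 = t.trace ^ 2 + 1 := by
    rcases hCls hcard t ht with ⟨-, h4⟩ | ⟨-, h5⟩ | ⟨-, h7⟩ | ⟨h, -⟩
    · exfalso
      apply hne
      have e : t ^ 13 = t := by
        rw [show 13 = 4 * 3 + 1 from rfl, pow_succ, pow_mul, h4, one_pow, one_mul]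
      rw [← e, h13]
    · exfalso
      apply hne
      have e : t ^ 26 = t := by
        rw [show 26 = 5 * 5 + 1 from rfl, pow_succ, pow_mul, h5, one_pow, one_mul]
      have e' : t ^ 26 = 1 := by
        rw [show 26 = 13 * 2 from rfl, pow_mul, h13, one_pow]
      rw [← e, e']
    · exfalso
      apply hne
      have e : t ^ 14 = t := by
        rw [show 14 = 13 + 1 from rfl, pow_succ, h13, one_mul]
      have e' : t ^ 14 = 1 := by
        rw [show 14 = 7 * 2 from rfl, pow_mul, h7, one_pow]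
      rw [← e, e']
    · exact h
  have hs : Pred (sqm F t) := by
    rw [sqm_eq]
    exact hPMap (frobenius F 2) t ht
  have htr : (sqm F t).trace = t.trace ^ 2 := by
    simp only [Matrix.trace, Matrix.diag, sqm_apply, Fin.sum_univ_four]
    linear_combination (-(t 0 0 * t 1 1 + t 0 0 * t 2 2 + t 0 0 * t 3 3 + t 1 1 * t 2 2
      + t 1 1 * t 3 3 + t 2 2 * t 3 3)) * h2
  have hm := hCH hcard t ht
  have hm' := hCH hcard (sqm F t) hs
  rw [htr] at hm'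
  set v : Matrix (Fin 4) (Fin 4) F := (sqm F t)ᵀ with hv
  have hv' : v ^ 4 + (t.trace ^ 2) • v ^ 3 + ((t.trace ^ 2) ^ 4) • v ^ 2 + (t.trace ^ 2) • v + 1
      = 0 := by
    have := congrArg Matrix.transpose hm'
    simpa only [Matrix.transpose_add, Matrix.transpose_smul, Matrix.transpose_pow,
      Matrix.transpose_one, Matrix.transpose_zero] using this
  have e1 : t * Xm * v = Xm := hfix
  have e2 : t ^ 2 * Xm * v ^ 2 = Xm := by
    calc t ^ 2 * Xm * v ^ 2 = t * (t * Xm * v) * v := by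
          rw [pow_two, pow_two]; simp only [Matrix.mul_assoc]
      _ = Xm := by rw [e1, e1]
  have e3 : t ^ 3 * Xm * v ^ 3 = Xm := by
    calc t ^ 3 * Xm * v ^ 3 = t * (t ^ 2 * Xm * v ^ 2) * v := by
          rw [pow_succ' t 2, pow_succ v 2]; simp only [Matrix.mul_assoc]
      _ = Xm := by rw [e2, e1]
  have e4 : t ^ 4 * Xm * v ^ 4 = Xm := by
    calc t ^ 4 * Xm * v ^ 4 = t * (t ^ 3 * Xm * v ^ 3) * v := by
          rw [pow_succ' t 3, pow_succ v 3]; simp only [Matrix.mul_assoc]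
      _ = Xm := by rw [e3, e1]
  have e43 : t ^ 4 * Xm * v ^ 3 = t * Xm := by
    calc t ^ 4 * Xm * v ^ 3 = t * (t ^ 3 * Xm * v ^ 3) := by
          rw [pow_succ' t 3]; simp only [Matrix.mul_assoc]
      _ = t * Xm := by rw [e3]
  have e42 : t ^ 4 * Xm * v ^ 2 = t ^ 2 * Xm := by
    calc t ^ 4 * Xm * v ^ 2 = t ^ 2 * (t ^ 2 * Xm * v ^ 2) := by
          rw [show t ^ 4 = t ^ 2 * t ^ 2 from by rw [← pow_add]]; simp only [Matrix.mul_assoc]
      _ = t ^ 2 * Xm := by rw [e2]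
  have e41 : t ^ 4 * Xm * v = t ^ 3 * Xm := by
    calc t ^ 4 * Xm * v = t ^ 3 * (t * Xm * v) := by
          rw [pow_succ t 3]; simp only [Matrix.mul_assoc]
      _ = t ^ 3 * Xm := by rw [e1]
  have key : (t ^ 4 + (t.trace ^ 2) • t ^ 3 + ((t.trace ^ 2) ^ 4) • t ^ 2 + (t.trace ^ 2) • t + 1)
      * Xm = 0 := by
    have e : (t ^ 4 + (t.trace ^ 2) • t ^ 3 + ((t.trace ^ 2) ^ 4) • t ^ 2 + (t.trace ^ 2) • t + 1)
        * Xm = t ^ 4 * Xm * (v ^ 4 + (t.trace ^ 2) • v ^ 3 + ((t.trace ^ 2) ^ 4) • v ^ 2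
          + (t.trace ^ 2) • v + 1) := by
      simp only [Matrix.add_mul, Matrix.mul_add, Matrix.smul_mul, Matrix.mul_smul,
        Matrix.mul_one, Matrix.one_mul]
      rw [e4, e43, e42, e41]
      abel
    rw [e, hv', Matrix.mul_zero]
  rw [show (t.trace ^ 2) ^ 4 = t.trace ^ 8 from by rw [← pow_mul]] at key
  have hbez := congrArg (aeval t) (bezout13 h2 t.trace hc3)
  simp only [← C_pow] at hbez
  rw [map_add, map_mul, map_mul, aeval_quartic, aeval_quartic, hm, mul_zero, zero_add,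
    map_one] at hbez
  have hfin : Xm = 1 * Xm := (Matrix.one_mul Xm).symm
  rw [hfin, ← hbez, Matrix.mul_assoc, key, Matrix.mul_zero]

end Cfsg.Agent.Lib.Helper61.PG63
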